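import Groth.Agent.NodeNorm7.TwoPts
import Groth.Agent.NodeModif7.Main
import Groth.Agent.ExistEasy.PP.PullSec
import Groth.Agent.KRR7.PullModel
import Groth.Agent.Lib.CurveTensor
import Groth.Agent.ZClosLib.CohDescent

/-! The unit of pullback at the points of a fibre. -/

set_option autoImplicit false
set_option linter.style.haveILetI false
set_option linter.unusedSectionVars false
set_option backward.isDefEq.respectTransparency false
set_option backward.isDefEq.respectTransparency.types false
set_option maxHeartbeats 800000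

universe u

noncomputable section

open CategoryTheory CategoryTheory.Limits AlgebraicGeometry TopologicalSpace Opposite IsLocalRing

namespace Groth.Agent.NodeNorm7

open Groth.Agent

variable {X Y : Scheme.{u}} (π : Y ⟶ X) (x : X) {y : Y} (hy : π y = x)

/-- The stalk map over `x`. -/
abbrev phi : X.presheaf.stalk x →+* Y.presheaf.stalk y := CycLib.PushSheaf.stalkHom π x hy

/-- The unit at a point of the fibre. -/
def nu (F : X.Modules) :
    letI : Module (X.presheaf.stalk x) (((Scheme.Modules.pullback π).obj F).presheaf.stalk y) :=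
      Module.compHom _ (phi π x hy)
    F.presheaf.stalk x →ₗ[X.presheaf.stalk x] ((Scheme.Modules.pullback π).obj F).presheaf.stalk y :=
  letI : Module (X.presheaf.stalk x) (((Scheme.Modules.pullback π).obj F).presheaf.stalk y) :=
    Module.compHom _ (phi π x hy)
  { toFun := fun v => proj π x _ hy (CycK.sl ((Scheme.Modules.pullbackPushforwardAdjunction π).unit.app F) x v)
    map_add' := fun v w => by
      rw [map_add]
      exact map_add (CycLib.PushSheaf.stalkProj π _ x hy).hom _ _
    map_smul' := fun a v => by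
      rw [map_smul]
      exact CycLib.PushSheaf.stalkProj_smul π _ x hy a _ }

theorem nu_apply (F : X.Modules) (v : F.presheaf.stalk x) :
    nu π x hy F v = proj π x _ hy (CycK.sl ((Scheme.Modules.pullbackPushforwardAdjunction π).unit.app F) x v) := rfl

theorem nu_natural {F G : X.Modules} (j : F ⟶ G) (v : F.presheaf.stalk x) :
    CycK.sl ((Scheme.Modules.pullback π).map j) y (nu π x hy F v) = nu π x hy G (CycK.sl j x v) := by
  rw [nu_apply, ← proj_natural, nu_apply]
  congr 1
  refine (CycK.sl_comp_apply _ _ x v).symm.trans ?_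
  refine Eq.trans ?_ (CycK.sl_comp_apply _ _ x v)
  exact congrArg (fun φ => CycK.sl φ x v) ((Scheme.Modules.pullbackPushforwardAdjunction π).unit_naturality j)

theorem span_nu [IsAffineHom π] {F : X.Modules} (hF : Coh.IsQCoh F) :
    Submodule.span (Y.presheaf.stalk y) (Set.range (nu π x hy F)) = ⊤ := by
  obtain ⟨_, ⟨V, hV, rfl⟩, hxV, -⟩ :=
    X.isBasis_affineOpens.exists_subset_of_mem_open (Set.mem_univ x) isOpen_univ
  have hyW : y ∈ π ⁻¹ᵁ V := show π y ∈ V from hy.symm ▸ hxV
  let G := (Scheme.Modules.pullback π).obj F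
  letI : Algebra Γ(X, V) Γ(Y, π ⁻¹ᵁ V) := (π.appLE V (π ⁻¹ᵁ V) le_rfl).hom.toAlgebra
  letI : Module Γ(X, V) Γ(G, π ⁻¹ᵁ V) := Module.compHom _ (π.appLE V (π ⁻¹ᵁ V) le_rfl).hom
  haveI : IsScalarTower Γ(X, V) Γ(Y, π ⁻¹ᵁ V) Γ(G, π ⁻¹ᵁ V) := IsScalarTower.of_algebraMap_smul fun _ _ => rfl
  obtain ⟨l, hl, hbc⟩ := ExistEasy.exists_pullSec_baseChange π hF (hV.preimage π) hV le_rfl
  letI := QCoh.stalkModule G hyW
  haveI := QCoh.isLocalizedModule_germLin (QCoh.isQCoh_pullback π hF) (hV.preimage π) hyW
  have hgerm : ∀ g, G.presheaf.germ (π ⁻¹ᵁ V) y hyW g ∈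
      Submodule.span (Y.presheaf.stalk y) (Set.range (nu π x hy F)) := fun g =>
    hbc.inductionOn g _ (by rw [map_zero]; exact zero_mem _)
      (fun m => by
        refine Submodule.subset_span ⟨F.presheaf.germ V x hxV m, ?_⟩
        rw [nu_apply]
        refine (congrArg (proj π x _ hy) (CycK.sl_germ _ V hxV m)).trans ?_
        refine (CycLib.PushSheaf.stalkProj_germ π G x hy hxV _).trans ?_
        rw [hl]
        unfold QCoh.pullSec
        exact (TopCat.Presheaf.germ_res_apply _ _ _ _ _).symm)
      (fun c n hn => by rw [QCoh.germ_smul']; exact Submodule.smul_mem _ _ hn)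
      (fun a b ha hb => by rw [map_add]; exact add_mem ha hb)
  refine top_unique fun v _ => ?_
  obtain ⟨⟨g, s⟩, hs⟩ := IsLocalizedModule.surj
    ((hV.preimage π).primeIdealOf ⟨y, hyW⟩).asIdeal.primeCompl (QCoh.germLin G hyW) v
  have hu : IsUnit (Y.presheaf.germ (π ⁻¹ᵁ V) y hyW (s : Γ(Y, π ⁻¹ᵁ V))) := by
    letI := QCoh.stalkAlg (X := Y) hyW
    haveI := QCoh.isLocalization_stalk' (hV.preimage π) hyW
    exact IsLocalization.map_units (Y.presheaf.stalk y) s
  obtain ⟨c, hc⟩ := hu
  have h1 : (c : Y.presheaf.stalk y) • v = G.presheaf.germ (π ⁻¹ᵁ V) y hyW g := by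
    rw [hc]; exact hs
  rw [← one_smul (Y.presheaf.stalk y) v, ← c.inv_mul, mul_smul, h1]
  exact Submodule.smul_mem _ _ (hgerm g)

section Residual

variable (hres : ∀ b : Y.presheaf.stalk y, ∃ a, b - phi π x hy a ∈ maximalIdeal (Y.presheaf.stalk y))

include hres in
/-- Modulo the maximal ideal, the pullback stalk is hit by the stalk. -/
theorem exists_sub_nu_mem [IsAffineHom π] {F : X.Modules} (hF : Coh.IsQCoh F)
    (e : ((Scheme.Modules.pullback π).obj F).presheaf.stalk y) :
    ∃ v, e - nu π x hy F v ∈
      maximalIdeal (Y.presheaf.stalk y) • (⊤ : Submodule (Y.presheaf.stalk y) _) := by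
  letI : Module (X.presheaf.stalk x) (((Scheme.Modules.pullback π).obj F).presheaf.stalk y) :=
    Module.compHom _ (phi π x hy)
  have he : e ∈ Submodule.span (Y.presheaf.stalk y) (Set.range (nu π x hy F)) := span_nu π x hy hF ▸ trivial
  induction he using Submodule.span_induction with
  | mem e he =>
    obtain ⟨v, rfl⟩ := he
    exact ⟨v, by rw [sub_self]; exact zero_mem _⟩
  | zero => exact ⟨0, by rw [map_zero, sub_zero]; exact zero_mem _⟩
  | add e f _ _ he hf =>
    obtain ⟨v, hv⟩ := he
    obtain ⟨w, hw⟩ := hf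
    refine ⟨v + w, ?_⟩
    rw [map_add, add_sub_add_comm]
    exact add_mem hv hw
  | smul b e _ he =>
    obtain ⟨v, hv⟩ := he
    obtain ⟨a, ha⟩ := hres b
    refine ⟨a • v, ?_⟩
    rw [map_smul, show b • e - a • nu π x hy F v =
      b • (e - nu π x hy F v) + (b - phi π x hy a) • nu π x hy F v by
        rw [smul_sub, sub_smul]
        show b • e - phi π x hy a • nu π x hy F v = _
        abel]
    exact add_mem (Submodule.smul_mem _ _ hv) (Submodule.smul_mem_smul ha trivial)

include hres in
/-- For a locally free module the kernel modulo the maximal ideal is `𝔪 G_x`. -/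
theorem nu_mem_iff [IsAffineHom π] [IsLocalHom (phi π x hy)] {G : X.Modules} {r : ℕ}
    (hG : FlatMod.IsFinLocFreeOfRank r G) (v : G.presheaf.stalk x) :
    nu π x hy G v ∈ maximalIdeal (Y.presheaf.stalk y) •
        (⊤ : Submodule (Y.presheaf.stalk y) (((Scheme.Modules.pullback π).obj G).presheaf.stalk y)) ↔
      v ∈ maximalIdeal (X.presheaf.stalk x) • (⊤ : Submodule (X.presheaf.stalk x) (G.presheaf.stalk x)) := by
  let A := X.presheaf.stalk x
  let B := Y.presheaf.stalk y
  letI : Algebra A B := (phi π x hy).toAlgebra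
  letI : Module A (((Scheme.Modules.pullback π).obj G).presheaf.stalk y) := Module.compHom _ (phi π x hy)
  haveI : IsScalarTower A B (((Scheme.Modules.pullback π).obj G).presheaf.stalk y) :=
    IsScalarTower.of_algebraMap_smul fun _ _ => rfl
  have hGq : Coh.IsQCoh G := QCoh.isQCoh_of_isFinLocFree fun z => let ⟨W, hz, e⟩ := hG z; ⟨W, r, hz, e⟩
  obtain ⟨b⟩ := CurveTensor.exists_basis_stalk hG x
  obtain ⟨b'⟩ := CurveTensor.exists_basis_stalk (KRR7.isFinLocFreeOfRank_pullback π hG) y
  let K : Submodule A (G.presheaf.stalk x) := maximalIdeal A • ⊤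
  let K' := (maximalIdeal B • (⊤ : Submodule B (((Scheme.Modules.pullback π).obj G).presheaf.stalk y))).restrictScalars A
  have hle : K ≤ K'.comap (nu π x hy G) := Submodule.smul_le.2 fun a ha w _ => by
    rw [Submodule.mem_comap, map_smul]
    show phi π x hy a • nu π x hy G w ∈ maximalIdeal B • (⊤ : Submodule B _)
    exact Submodule.smul_mem_smul (map_nonunit (phi π x hy) a ha) trivial
  let q := Submodule.mapQ K K' (nu π x hy G) hle
  have hq : Function.Surjective q := fun e => by
    obtain ⟨e, rfl⟩ := Submodule.mkQ_surjective _ e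
    obtain ⟨v, hv⟩ := exists_sub_nu_mem π x hy hres hGq e
    refine ⟨Submodule.Quotient.mk v, ?_⟩
    rw [Submodule.mapQ_apply, Submodule.mkQ_apply, eq_comm, Submodule.Quotient.eq]
    exact hv
  have h1 : Module.length A (G.presheaf.stalk x ⧸ K) = r := by
    have := length_residual (A := A) (B := A) (fun a => ⟨a, by simp⟩) (G.presheaf.stalk x) b.equivFun
    rw [Submodule.restrictScalars_self, Fintype.card_fin] at this
    exact this
  have h2 : Module.length A (_ ⧸ K') = r := by
    have := length_residual (A := A) (B := B) hres _ b'.equivFun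
    rw [Fintype.card_fin] at this
    exact this
  have hinj : Function.Injective q := by
    have h3 := Module.length_eq_add_of_exact (LinearMap.ker q).subtype q Subtype.val_injective hq
      (LinearMap.exact_subtype_ker_map q)
    rw [h1, h2] at h3
    have h4 : Module.length A (LinearMap.ker q) = 0 := by
      rcases eq_or_ne (Module.length A (LinearMap.ker q)) ⊤ with h | h
      · rw [h, top_add] at h3; exact absurd h3 (ENat.coe_ne_top r)
      · obtain ⟨n, hn⟩ := ENat.ne_top_iff_exists.1 h
        rw [← hn] at h3 ⊢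
        have h5 : r = n + r := by exact_mod_cast h3
        exact_mod_cast (by omega : n = 0)
    rw [← LinearMap.ker_eq_bot]
    haveI := Module.length_eq_zero_iff.1 h4
    exact Submodule.eq_bot_of_subsingleton
  constructor
  · intro hv
    refine (Submodule.Quotient.mk_eq_zero K).1 (hinj ?_)
    rw [map_zero, Submodule.mapQ_apply, Submodule.Quotient.mk_eq_zero]
    exact hv
  · exact fun hv => hle hv

end Residual

end Groth.Agent.NodeNorm7
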