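import Groth.Agent.NodeNorm7.PushStalk
import Groth.Agent.KFlatLib.Scheme.TensorStalk
import Groth.Agent.RefX.Reflexive
import Groth.Agent.HomShX.Basic
import Groth.Agent.Lib.CurvePoint
import Groth.Agent.Lib.CurveTensor
import Groth.Agent.ParShLib.ResStalk
import Groth.Prelude.Def_ParBun2

/-! The restriction `E → E ⊗ O_D` on stalks. -/

set_option autoImplicit false
set_option linter.style.haveILetI false
set_option backward.isDefEq.respectTransparency false
set_option backward.isDefEq.respectTransparency.types false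
set_option maxHeartbeats 800000

universe u

noncomputable section

open CategoryTheory CategoryTheory.Limits AlgebraicGeometry TopologicalSpace Opposite IsLocalRing MonoidalCategory
open scoped TensorProduct

namespace Groth.Agent.NodeNorm7

open Groth.Agent

variable {Y : Scheme.{u}} (I : Y.IdealSheafData)

/-- `E → E ⊗ O_D`. -/
abbrev rho (E : Y.Modules) : E ⟶ ParSh.resD I E :=
  (SecTwist.unitorR E).inv ≫ KoszTw.tensorMap (𝟙 E) (ClSub.toSubscheme I)

theorem nontrivial_quotMod {y : Y} (hy : y ∈ I.support) : Nontrivial ((ClSub.quotMod I).presheaf.stalk y) := by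
  obtain ⟨z, hz⟩ : y ∈ Set.range I.subschemeι := by rw [I.range_subschemeι]; exact hy
  refine ⟨(ClSub.quotMod I).presheaf.germ ⊤ y trivial (1 : Γ(I.subscheme, I.subschemeι ⁻¹ᵁ ⊤)), 0, fun h0 => ?_⟩
  have h := congrArg (CycLib.PushSheaf.stalkProj I.subschemeι (Coh.structureModule I.subscheme) y hz) h0
  rw [map_zero] at h
  refine one_ne_zero (α := I.subscheme.presheaf.stalk z) ?_
  refine (map_one (I.subscheme.presheaf.germ (I.subschemeι ⁻¹ᵁ ⊤) z trivial).hom).symm.trans ?_
  apply (RefX.unitStalk z).injective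
  rw [map_zero]
  refine (HomShX.unitStalk_germ _ _).trans ?_
  exact ((CycLib.PushSheaf.stalkProj_germ I.subschemeι (Coh.structureModule I.subscheme) y hz (U := ⊤) trivial
    _).symm.trans h)

theorem rho_stalk {r : ℕ} {E : Y.Modules} (hE : FlatMod.IsFinLocFreeOfRank r E) (y : Y) :
    Function.Surjective (CycK.sl (rho I E) y) ∧
    (y ∈ I.support → ∀ e, CycK.sl (rho I E) y e = 0 →
      e ∈ maximalIdeal (Y.presheaf.stalk y) • (⊤ : Submodule (Y.presheaf.stalk y) (E.presheaf.stalk y))) := by
  let B := Y.presheaf.stalk y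
  let s := CycK.sl (ClSub.toSubscheme I) y
  haveI := CurvePoint.epi_toSubscheme I
  have hs : Function.Surjective s := CycK.sl_surjective _ y
  let σ : B →ₗ[B] (ClSub.quotMod I).presheaf.stalk y := s.comp (RefX.unitStalk y).toLinearMap
  have hσs : Function.Surjective σ := fun g => by
    obtain ⟨v, rfl⟩ := hs g
    obtain ⟨t, rfl⟩ := (RefX.unitStalk y).surjective v
    exact ⟨t, rfl⟩
  let T := KFlatLib.stalkTensorLeftIso E y
  let η : E.presheaf.stalk y ≃ₗ[B] E.presheaf.stalk y ⊗[B] (Coh.structureModule Y).presheaf.stalk y :=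
    ((DerSch.stalkFunctor Y y).mapIso (SecTwist.unitorR E).symm ≪≫ T.app (Coh.structureModule Y)).toLinearEquiv
  let η' : E.presheaf.stalk y ⊗[B] (Coh.structureModule Y).presheaf.stalk y ≃ₗ[B] E.presheaf.stalk y ⊗[B] B :=
    TensorProduct.congr (LinearEquiv.refl B _) (RefX.unitStalk y).symm
  have hfac : ∀ e, (T.app (ClSub.quotMod I)).hom (CycK.sl (rho I E) y e) =
      LinearMap.lTensor (E.presheaf.stalk y) σ (η' (η e)) := fun e => by
    have hnat := T.hom.naturality (ClSub.toSubscheme I)
    have h1 : CycK.sl (rho I E) y e =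
        (DerSch.stalkFunctor Y y).map ((DCoh.tensorBi.obj E).map (ClSub.toSubscheme I))
          ((DerSch.stalkFunctor Y y).map (SecTwist.unitorR E).inv e) := by
      rw [KoszTw.tensorBi_obj_map]
      exact CycK.sl_comp_apply _ _ y e
    rw [h1]
    refine (ConcreteCategory.congr_hom hnat _).trans ?_
    have h2 : ∀ w : E.presheaf.stalk y ⊗[B] (Coh.structureModule Y).presheaf.stalk y,
        LinearMap.lTensor (E.presheaf.stalk y) σ (η' w) = LinearMap.lTensor (E.presheaf.stalk y) s w := fun w => by
      induction w with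
      | zero => simp
      | tmul a b => simp [η', σ]; rfl
      | add a b ha hb => rw [map_add, map_add, ha, hb, map_add]
    rw [h2]
    rfl
  have hTi : Function.Injective (T.app (ClSub.quotMod I)).hom :=
    (T.app (ClSub.quotMod I)).toLinearEquiv.injective
  refine ⟨fun g => ?_, fun hy e he => ?_⟩
  · obtain ⟨w, hw⟩ := LinearMap.lTensor_surjective (E.presheaf.stalk y)
      hσs ((T.app (ClSub.quotMod I)).hom g)
    refine ⟨η.symm (η'.symm w), hTi ?_⟩
    rw [hfac, LinearEquiv.apply_symm_apply, LinearEquiv.apply_symm_apply, hw]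
  · haveI := nontrivial_quotMod I hy
    have h1 : LinearMap.lTensor (E.presheaf.stalk y) σ (η' (η e)) = 0 := by rw [← hfac, he, map_zero]
    obtain ⟨b⟩ := CurveTensor.exists_basis_stalk hE y
    let w := TensorProduct.rid B (E.presheaf.stalk y) (η' (η e))
    have hw : η' (η e) = w ⊗ₜ[B] (1 : B) := by
      apply (TensorProduct.rid B (E.presheaf.stalk y)).injective
      rw [TensorProduct.rid_tmul, one_smul]
    have hσ : ∀ i, b.repr w i ∈ maximalIdeal B := fun i => by
      rw [hw, LinearMap.lTensor_tmul] at h1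
      have h2 := congrArg (TensorProduct.lid B _ ∘ LinearMap.rTensor _ (b.coord i)) h1
      simp only [Function.comp_apply, map_zero] at h2
      have h2' : b.repr w i • σ 1 = 0 := h2
      intro hu
      obtain ⟨c, hc⟩ := hu
      have h3 : σ 1 = 0 := by
        have h4 : σ 1 = ((↑c⁻¹ : B) * ↑c) • σ 1 := by rw [c.inv_mul, one_smul]
        rw [h4, mul_smul, hc, h2', smul_zero]
      obtain ⟨p, q, hpq⟩ := exists_pair_ne ((ClSub.quotMod I).presheaf.stalk y)
      refine hpq ?_
      have hz : ∀ g, g = (0 : (ClSub.quotMod I).presheaf.stalk y) := fun g => by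
        obtain ⟨t, rfl⟩ := hσs g
        rw [← mul_one t, ← smul_eq_mul, map_smul, h3, smul_zero]
      rw [hz p, hz q]
    have hwm : w ∈ maximalIdeal B • (⊤ : Submodule B (E.presheaf.stalk y)) := by
      rw [← b.sum_repr w]
      exact Submodule.sum_mem _ fun i _ => Submodule.smul_mem_smul (hσ i) trivial
    let θ : E.presheaf.stalk y →ₗ[B] E.presheaf.stalk y :=
      (η.symm.toLinearMap.comp η'.symm.toLinearMap).comp ((TensorProduct.mk B (E.presheaf.stalk y) B).flip 1)
    have hθ : θ w = e := by
      show η.symm (η'.symm (w ⊗ₜ[B] (1 : B))) = e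
      rw [← hw, LinearEquiv.symm_apply_apply, LinearEquiv.symm_apply_apply]
    rw [← hθ]
    have h4 := Submodule.mem_map_of_mem (f := θ) hwm
    rw [Submodule.map_smul''] at h4
    exact Submodule.smul_mono le_rfl le_top h4

end Groth.Agent.NodeNorm7
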