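import Groth.Agent.NodeNorm7.Local
import Groth.Agent.NodeNorm7.Res
import Groth.Agent.ConsPropLib.FibreLocFreeRank

/-! A torsion free sheaf on a nodal curve as a kernel on the normalisation. -/

set_option autoImplicit false
set_option linter.style.haveILetI false
set_option linter.unusedSectionVars false
set_option backward.isDefEq.respectTransparency false
set_option backward.isDefEq.respectTransparency.types false
set_option maxHeartbeats 1600000
set_option synthInstance.maxHeartbeats 400000

universe u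

noncomputable section

open CategoryTheory CategoryTheory.Limits AlgebraicGeometry TopologicalSpace Opposite IsLocalRing

namespace Groth.Agent.NodeNorm7

open Groth.Agent

variable {X Y : Scheme.{u}} (π : Y ⟶ X)

/-- Direct images of a submodule which is everything outside finitely many closed points. -/
theorem push_sub [IsFinite π] (x : X) {H M : Y.Modules} (ι : H ⟶ M) [Mono ι] (hH : Coh.IsQCoh H)
    (hM : Coh.IsQCoh M) (S : Finset Y) (hS : ∀ y ∈ S, IsClosed ({y} : Set Y))
    (hb : ∀ z ∉ S, Function.Surjective (CycK.sl ι z)) :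
    Function.Injective (CycK.sl ((Scheme.Modules.pushforward π).map ι) x) ∧
    (∀ g : ∀ y : Y, M.presheaf.stalk y, ∃ z, ∀ y, ∀ hy : π y = x, y ∈ S →
      proj π x M hy z - g y ∈ LinearMap.range (CycK.sl ι y)) ∧
    ∀ z, (z ∈ LinearMap.range (CycK.sl ((Scheme.Modules.pushforward π).map ι) x) ↔
      ∀ y (hy : π y = x), y ∈ S → proj π x M hy z ∈ LinearMap.range (CycK.sl ι y)) := by
  classical
  let P := Scheme.Modules.pushforward π
  let SC := ShortComplex.mk ι (cokernel.π ι) (cokernel.condition ι)
  have hSC : SC.Exact := ShortComplex.exact_cokernel ι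
  haveI : Mono SC.f := inferInstanceAs (Mono ι)
  obtain ⟨hinj, hex⟩ := sl_map_exact π x SC hSC
  have hQ : Coh.IsQCoh (cokernel ι) := QCoh.isQCoh_cokernel hH hM ι
  let T := S.filter fun y => π y = x
  have hT : ∀ y ∈ T, π y = x := fun y hy => (Finset.mem_filter.1 hy).2
  have hzero : ∀ z ∉ S, Subsingleton ((cokernel ι).presheaf.stalk z) := fun z hz =>
    CycK.subsingleton_cokernel ι (hb z hz)
  have hbij := proj_bijective π x (cokernel ι) T hT S (fun y hy h => Finset.mem_filter.2 ⟨hy, h⟩)
    (Finset.filter_subset _ _) hS hzero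
  have hker : ∀ y m, CycK.sl (cokernel.π ι) y m = 0 ↔ m ∈ LinearMap.range (CycK.sl ι y) := fun y m => by
    have := (CycK.sl_exact (S := SC) hSC y) m
    exact this
  refine ⟨hinj, fun g => ?_, fun z => ?_⟩
  · obtain ⟨q, hq⟩ := hbij.2 fun y => CycK.sl (cokernel.π ι) y.1 (g y.1)
    obtain ⟨z, rfl⟩ := sl_map_surjective π x hM hQ (cokernel.π ι) q
    refine ⟨z, fun y hy hyS => (hker y _).1 ?_⟩
    rw [map_sub, ← proj_natural π x (cokernel.π ι) hy z, sub_eq_zero]
    exact congrFun hq ⟨y, Finset.mem_filter.2 ⟨hyS, hy⟩⟩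
  · refine (hex z).symm.trans ?_
    constructor
    · intro h y hy hyS
      refine (hker y _).1 ?_
      rw [← proj_natural π x (cokernel.π ι) hy z]
      refine (congrArg (proj π x _ hy) h).trans ?_
      exact map_zero (CycLib.PushSheaf.stalkProj π (cokernel ι) x hy).hom
    · intro h
      refine hbij.1 (funext fun y => ?_)
      show proj π x _ (hT y.1 y.2) _ = proj π x _ (hT y.1 y.2) 0
      rw [show proj π x (cokernel ι) (hT y.1 y.2) 0 = 0 from map_zero (CycLib.PushSheaf.stalkProj π _ x _).hom]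
      refine (proj_natural π x (cokernel.π ι) (hT y.1 y.2) z).trans ?_
      exact (hker y.1 _).2 (h y.1 _ (Finset.mem_filter.1 y.2).1)

/-- Submodules containing `𝔪 M` in a free module over a principal ideal ring. -/
theorem free_rank_of_le {B E N : Type u} [CommRing B] [IsDomain B] [IsPrincipalIdealRing B]
    [AddCommGroup E] [Module B E] [Module.Free B E] [Module.Finite B E] [AddCommGroup N] [Module B N]
    (i : N →ₗ[B] E) (hi : Function.Injective i) {t : B} (ht : t ≠ 0) (h : ∀ e, t • e ∈ LinearMap.range i) :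
    Module.Free B N ∧ Module.finrank B N = Module.finrank B E := by
  let e := LinearEquiv.ofInjective i hi
  haveI : Module.Finite B N := Module.Finite.equiv e.symm
  haveI : Module.Free B (LinearMap.range i) := Module.free_of_finite_type_torsion_free'
  haveI : Module.Free B N := Module.Free.of_equiv e.symm
  refine ⟨inferInstance, le_antisymm (LinearMap.finrank_le_finrank_of_injective hi) ?_⟩
  let m : E →ₗ[B] LinearMap.range i := LinearMap.codRestrict _ (t • LinearMap.id) h
  have hm : Function.Injective m := fun a b hab => by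
    have h1 : t • a = t • b := congrArg Subtype.val hab
    exact smul_right_injective E ht h1
  exact (LinearMap.finrank_le_finrank_of_injective hm).trans e.finrank_eq.ge

theorem eq_of_length_add {a b c : ℕ} {L : ℕ∞} (h : ((a + b : ℕ) : ℕ∞) = L + (c : ℕ∞)) (hbc : b = c) :
    L = (a : ℕ∞) := by
  subst hbc
  rcases eq_or_ne L ⊤ with h' | h'
  · rw [h', top_add] at h; exact absurd h (ENat.natCast_ne_top _)
  · obtain ⟨n, hn⟩ := ENat.ne_top_iff_exists.1 h'
    rw [← hn] at h ⊢
    have h5 : a + b = n + b := by exact_mod_cast h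
    exact_mod_cast (by omega : n = a)

theorem sl_eq_stalkMap {M N : X.Modules} (φ : M ⟶ N) {x : X} : CycK.sl φ x = RefHull.stalkMapₗ φ x := rfl

variable [IsFinite π] [AlgebraicGeometry.IsReduced X] [IsLocallyNoetherian X]
  [∀ y : Y, IsDomain (Y.presheaf.stalk y)] [∀ y : Y, IsPrincipalIdealRing (Y.presheaf.stalk y)]

/-- A torsion free sheaf is the kernel of a quotient of the restriction to the points over the nodes. -/
theorem exists_kernel [AlgebraicGeometry.IsReduced Y] {U : X.Opens} [IsIso (π ∣_ U)]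
    (hU : Dense (U : Set X)) (hU' : Dense ((π ⁻¹ᵁ U : Y.Opens) : Set Y))
    (s : Finset X) (hsU : ∀ x, x ∈ s ↔ x ∉ U) (hs : ∀ x ∈ s, IsClosed ({x} : Set X))
    (hres : ∀ x ∈ s, ∀ y (hy : π y = x) (b : Y.presheaf.stalk y),
      ∃ a, b - phi π x hy a ∈ maximalIdeal (Y.presheaf.stalk y))
    (hlen : ∀ x ∈ s, Module.length (X.presheaf.stalk x) ((cokernel (ClSub.unitToPush π)).presheaf.stalk x) = 1)
    (hoff : ∀ x ∉ s, Module.length (X.presheaf.stalk x) ((cokernel (ClSub.unitToPush π)).presheaf.stalk x) = 0)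
    (hnode : ∀ x ∈ s, NodeLib.HasNodePair (X.presheaf.stalk x))
    (I : Y.IdealSheafData) (hI : ∀ y, y ∈ I.support ↔ π y ∈ s)
    {r : ℕ} {F G : X.Modules} (hF : Coh.IsCoh F) (hG : FlatMod.IsFinLocFreeOfRank r G) (j : F ⟶ G)
    (hjinj : ∀ x, Function.Injective (RefHull.stalkMapₗ j x))
    (hjoff : ∀ x ∉ s, Function.Surjective (RefHull.stalkMapₗ j x))
    (c : X → ℕ)
    (hjon : ∀ x ∈ s, (∀ f ∈ maximalIdeal (X.presheaf.stalk x), ∀ g : G.presheaf.stalk x,
        f • g ∈ LinearMap.range (RefHull.stalkMapₗ j x)) ∧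
      Module.length (X.presheaf.stalk x) (G.presheaf.stalk x ⧸ LinearMap.range (RefHull.stalkMapₗ j x)) =
        (c x : ℕ∞)) :
    ∃ (E : Y.Modules), FlatMod.IsFinLocFreeOfRank r E ∧
      ∃ (Q : X.Modules) (q : (Scheme.Modules.pushforward π).obj (ParSh.resD I E) ⟶ Q), Epi q ∧
        (∀ x ∉ s, Subsingleton (Q.presheaf.stalk x)) ∧
        (∀ x ∈ s, Module.length (X.presheaf.stalk x) (Q.presheaf.stalk x) = (r : ℕ∞)) ∧
        Nonempty (F ≅ kernel ((Scheme.Modules.pushforward π).map (rho I E) ≫ q)) := by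
  classical
  let P := Scheme.Modules.pushforward π
  let pb := Scheme.Modules.pullback π
  haveI : IsLocallyNoetherian Y := LocallyOfFiniteType.isLocallyNoetherian π
  choose c₁ c₂ hne hc₁ hc₂ using fun x (hx : x ∈ s) => exists_two π x hU (hlen x hx) (hnode x hx)
  let S₁ : Finset Y := s.attach.image fun x => c₁ x.1 x.2
  let S₂ : Finset Y := s.attach.image fun x => c₂ x.1 x.2
  have hmem₁ : ∀ y ∈ S₁, ∃ x, ∃ hx : x ∈ s, c₁ x hx = y := fun y hy => by
    obtain ⟨x, -, rfl⟩ := Finset.mem_image.1 hy; exact ⟨x.1, x.2, rfl⟩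
  have hmem₂ : ∀ y ∈ S₂, ∃ x, ∃ hx : x ∈ s, c₂ x hx = y := fun y hy => by
    obtain ⟨x, -, rfl⟩ := Finset.mem_image.1 hy; exact ⟨x.1, x.2, rfl⟩
  have hS₁ : ∀ y ∈ S₁ ∪ S₂, IsClosed ({y} : Set Y) ∧ π y ∈ s := fun y hy => by
    rcases Finset.mem_union.1 hy with h | h
    · obtain ⟨x, hx, rfl⟩ := hmem₁ y h
      exact ⟨isClosed_point π (hc₁ x hx) (hs x hx), (hc₁ x hx).symm ▸ hx⟩
    · obtain ⟨x, hx, rfl⟩ := hmem₂ y h
      exact ⟨isClosed_point π (hc₂ x hx) (hs x hx), (hc₂ x hx).symm ▸ hx⟩
  let E' := pb.obj G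
  have hE' : FlatMod.IsFinLocFreeOfRank r E' := KRR7.isFinLocFreeOfRank_pullback π hG
  have hGf : FlatMod.IsFinLocFree G := fun z => let ⟨W, hz, e⟩ := hG z; ⟨W, r, hz, e⟩
  have hE'f : FlatMod.IsFinLocFree E' := fun z => let ⟨W, hz, e⟩ := hE' z; ⟨W, r, hz, e⟩
  have hGc : Coh.IsCoh G := QCoh.isCoh_iff_isFP.2 (QCoh.isFP_of_isFinLocFree hGf)
  have hE'c : Coh.IsCoh E' := QCoh.isCoh_iff_isFP.2 (QCoh.isFP_of_isFinLocFree hE'f)
  have hTors : ∀ (y : Y) (N : Submodule (Y.presheaf.stalk y) (E'.presheaf.stalk y)),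
      maximalIdeal (Y.presheaf.stalk y) • ⊤ ≤ N → CycK.Tors (R := Y.presheaf.stalk y) (E'.presheaf.stalk y ⧸ N) := by
    intro y N hN f hf t
    obtain ⟨t, rfl⟩ := Submodule.mkQ_surjective _ t
    refine ⟨1, ?_⟩
    rw [pow_one, Submodule.mkQ_apply, ← Submodule.Quotient.mk_smul, Submodule.Quotient.mk_eq_zero]
    exact hN (Submodule.smul_mem_smul hf trivial)
  let N : ∀ y, Submodule (Y.presheaf.stalk y) (E'.presheaf.stalk y) := fun y =>
    LinearMap.range (CycK.sl (pb.map j) y) ⊔ maximalIdeal (Y.presheaf.stalk y) • ⊤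
  obtain ⟨E, ι, hE, hι, hr₁, hb₁⟩ := NodeModif7.exists_finSub hE'c S₁
    (fun y hy => (hS₁ y (Finset.mem_union_left _ hy)).1) N (fun y _ => hTors y _ le_sup_right)
  obtain ⟨H, κ, hH, hκ, hr₂, hb₂⟩ := NodeModif7.exists_finSub hE'c (S₁ ∪ S₂) (fun y hy => (hS₁ y hy).1)
    (fun y => maximalIdeal (Y.presheaf.stalk y) • ⊤) (fun y _ => hTors y _ le_rfl)
  haveI : Mono ι := HomShX.mono_of_stalk ι hι
  haveI : Mono κ := HomShX.mono_of_stalk κ hκ
  -- `E` is locally free of rank `r`
  have hEr : FlatMod.IsFinLocFreeOfRank r E := by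
    have key : ∀ y, Module.Free (Y.presheaf.stalk y) (E.presheaf.stalk y) ∧
        Module.finrank (Y.presheaf.stalk y) (E.presheaf.stalk y) = r := fun y => by
      obtain ⟨b⟩ := CurveTensor.exists_basis_stalk hE' y
      haveI := Module.Free.of_basis b
      haveI := Module.Finite.of_basis b
      rw [show r = Module.finrank (Y.presheaf.stalk y) (E'.presheaf.stalk y) by
        rw [Module.finrank_eq_card_basis b, Fintype.card_fin]]
      by_cases hy : y ∈ S₁
      · obtain ⟨t, ht, ht0⟩ := Submodule.exists_mem_ne_zero_of_ne_bot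
          (maximalIdeal_ne_bot (U := π ⁻¹ᵁ U) hU' (y := y) fun h =>
            (hsU (π y)).1 (hS₁ y (Finset.mem_union_left _ hy)).2 h)
        refine free_rank_of_le (CycK.sl ι y) (hι y) ht0 fun e => ?_
        have hm : t • e ∈ N y := Submodule.mem_sup_right (Submodule.smul_mem_smul ht trivial)
        rw [← hr₁ y hy] at hm
        exact hm
      · exact free_rank_of_le (CycK.sl ι y) (hι y) one_ne_zero fun e => (hb₁ y hy).2 _
    exact ConsPropLib.isFinLocFreeOfRank_iff.2
      ⟨QCoh.isFinLocFree_iff.2 ⟨QCoh.isCoh_iff_isFP.1 hE, fun y => (key y).1⟩, fun y => (key y).2⟩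
  -- the map from `F`
  have hlift : pb.map j ≫ cokernel.π ι = 0 := HomShX.ext_stalk fun y => LinearMap.ext fun v => by
    show CycK.sl (pb.map j ≫ cokernel.π ι) y v = CycK.sl 0 y v
    rw [CycK.sl_zero, CycK.sl_comp_apply, LinearMap.zero_apply]
    have hv : CycK.sl (pb.map j) y v ∈ LinearMap.range (CycK.sl ι y) := by
      by_cases hy : y ∈ S₁
      · rw [show CycK.sl ι y = RefHull.stalkMapₗ ι y from rfl, hr₁ y hy]
        exact Submodule.mem_sup_left ⟨v, rfl⟩
      · exact (hb₁ y hy).2 _
    exact ((CycK.sl_exact (S := ShortComplex.mk ι (cokernel.π ι) (cokernel.condition ι))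
      (ShortComplex.exact_cokernel ι) y) _).2 hv
  let ψ : pb.obj F ⟶ E := Abelian.monoLift ι (pb.map j) hlift
  have hψ : ψ ≫ ι = pb.map j := Abelian.monoLift_comp _ _ _
  let β : F ⟶ P.obj E := (Scheme.Modules.pullbackPushforwardAdjunction π).unit.app F ≫ P.map ψ
  have hβ : ∀ x v, CycK.sl (P.map ι) x (CycK.sl β x v) =
      CycK.sl ((Scheme.Modules.pullbackPushforwardAdjunction π).unit.app G) x (CycK.sl j x v) := fun x v => by
    have h1 : β ≫ P.map ι = j ≫ (Scheme.Modules.pullbackPushforwardAdjunction π).unit.app G := by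
      show ((Scheme.Modules.pullbackPushforwardAdjunction π).unit.app F ≫ P.map ψ) ≫ P.map ι = _
      rw [Category.assoc, ← P.map_comp, hψ]
      exact (Scheme.Modules.pullbackPushforwardAdjunction π).unit_naturality j
    rw [← CycK.sl_comp_apply]
    exact (congrArg (fun φ => CycK.sl φ x v) h1).trans (CycK.sl_comp_apply _ _ x v)
  -- the unit of `G`
  have hηG : ∀ x, Function.Injective (CycK.sl ((Scheme.Modules.pullbackPushforwardAdjunction π).unit.app G) x) ∧
      Module.length (X.presheaf.stalk x)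
        (((Scheme.Modules.pushforward π).obj E').presheaf.stalk x ⧸
          LinearMap.range (CycK.sl ((Scheme.Modules.pullbackPushforwardAdjunction π).unit.app G) x)) =
        (if x ∈ s then (r : ℕ∞) else 0) := fun x => by
    obtain ⟨b⟩ := CurveTensor.exists_basis_stalk hG x
    obtain ⟨h1, h2, h3⟩ := NodePush7.unit_stalk π hU hU' hGc.1 x (NodePush7.tfOfFree b.equivFun)
    refine ⟨h1, (NodePush7.length_coker_stalk _ x).symm.trans ?_⟩
    by_cases hx : x ∈ s
    · rw [if_pos hx, h3 (hlen x hx), zero_mul, add_zero]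
    · rw [if_neg hx, h2 (hoff x hx)]
  have hPι : ∀ x, _ := fun x => push_sub π x ι hE.1 hE'c.1 S₁
    (fun y hy => (hS₁ y (Finset.mem_union_left _ hy)).1) (fun z hz => (hb₁ z hz).2)
  -- at every point the kernel of `π_*E → π_*(E ⊗ O_D)` lies in the image of `F`, with the right cokernel
  have hmain : ∀ x, Function.Injective (CycK.sl β x) ∧
      Module.length (X.presheaf.stalk x) ((P.obj E).presheaf.stalk x ⧸ LinearMap.range (CycK.sl β x)) =
        (if x ∈ s then (r : ℕ∞) else 0) ∧
      ∀ z, CycK.sl (P.map (rho I E)) x z = 0 → z ∈ LinearMap.range (CycK.sl β x) := by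
    intro x
    have hinj : Function.Injective (CycK.sl β x) := fun v w h => hjinj x ((hηG x).1 (by
      rw [← sl_eq_stalkMap j, ← hβ, ← hβ, h]))
    refine ⟨hinj, ?_⟩
    by_cases hx : x ∈ s
    · rw [if_pos hx]
      have hy₁ : π (c₁ x hx) = x := hc₁ x hx
      have hy₂ : π (c₂ x hx) = x := hc₂ x hx
      let A := X.presheaf.stalk x
      let η := CycK.sl ((Scheme.Modules.pullbackPushforwardAdjunction π).unit.app G) x
      obtain ⟨hι₁, hsurj₁, hker₁⟩ := hPι x
      have hy₁S : c₁ x hx ∈ S₁ := Finset.mem_image.2 ⟨⟨x, hx⟩, Finset.mem_attach _ _, rfl⟩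
      have hy₂S : c₂ x hx ∈ S₂ := Finset.mem_image.2 ⟨⟨x, hx⟩, Finset.mem_attach _ _, rfl⟩
      have honly : ∀ y, π y = x → y ∈ S₁ → y = c₁ x hx := fun y hy hyS => by
        obtain ⟨x', hx', rfl⟩ := hmem₁ y hyS
        obtain rfl : x' = x := (hc₁ x' hx').symm.trans hy
        rfl
      have honly₂ : ∀ y, π y = x → y ∈ S₁ ∪ S₂ → y = c₁ x hx ∨ y = c₂ x hx := fun y hy hyS => by
        rcases Finset.mem_union.1 hyS with h | h
        · exact Or.inl (honly y hy h)
        · obtain ⟨x', hx', rfl⟩ := hmem₂ y h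
          obtain rfl : x' = x := (hc₂ x' hx').symm.trans hy
          exact Or.inr rfl
      haveI : IsLocalHom (phi π x hy₁) := CycLib.PushSheaf.isLocalHom_stalkHom π x hy₁
      haveI : IsLocalHom (phi π x hy₂) := CycLib.PushSheaf.isLocalHom_stalkHom π x hy₂
      letI : Algebra A (Y.presheaf.stalk (c₁ x hx)) := (phi π x hy₁).toAlgebra
      letI : Algebra A (Y.presheaf.stalk (c₂ x hx)) := (phi π x hy₂).toAlgebra
      letI : Module A (E'.presheaf.stalk (c₁ x hx)) := Module.compHom _ (phi π x hy₁)
      letI : Module A (E'.presheaf.stalk (c₂ x hx)) := Module.compHom _ (phi π x hy₂)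
      haveI : IsScalarTower A (Y.presheaf.stalk (c₁ x hx)) (E'.presheaf.stalk (c₁ x hx)) :=
        IsScalarTower.of_algebraMap_smul fun _ _ => rfl
      haveI : IsScalarTower A (Y.presheaf.stalk (c₂ x hx)) (E'.presheaf.stalk (c₂ x hx)) :=
        IsScalarTower.of_algebraMap_smul fun _ _ => rfl
      obtain ⟨b₁⟩ := CurveTensor.exists_basis_stalk hE' (c₁ x hx)
      obtain ⟨b₂⟩ := CurveTensor.exists_basis_stalk hE' (c₂ x hx)
      obtain ⟨bG⟩ := CurveTensor.exists_basis_stalk hG x
      let m₁ : Submodule A (E'.presheaf.stalk (c₁ x hx)) :=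
        (maximalIdeal (Y.presheaf.stalk (c₁ x hx)) • (⊤ : Submodule (Y.presheaf.stalk (c₁ x hx)) _)).restrictScalars A
      let m₂ : Submodule A (E'.presheaf.stalk (c₂ x hx)) :=
        (maximalIdeal (Y.presheaf.stalk (c₂ x hx)) • (⊤ : Submodule (Y.presheaf.stalk (c₂ x hx)) _)).restrictScalars A
      let n₁ : Submodule A (E'.presheaf.stalk (c₁ x hx)) := (N (c₁ x hx)).restrictScalars A
      let π₁ : (P.obj E').presheaf.stalk x →ₗ[A] E'.presheaf.stalk (c₁ x hx) :=
        { toFun := proj π x E' hy₁
          map_add' := fun u v => map_add (CycLib.PushSheaf.stalkProj π E' x hy₁).hom u v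
          map_smul' := fun a u => CycLib.PushSheaf.stalkProj_smul π E' x hy₁ a u }
      let π₂ : (P.obj E').presheaf.stalk x →ₗ[A] E'.presheaf.stalk (c₂ x hx) :=
        { toFun := proj π x E' hy₂
          map_add' := fun u v => map_add (CycLib.PushSheaf.stalkProj π E' x hy₂).hom u v
          map_smul' := fun a u => CycLib.PushSheaf.stalkProj_smul π E' x hy₂ a u }
      -- `G/F ≅ E'/N` at the chosen point
      have hν : Module.length A (E'.presheaf.stalk (c₁ x hx) ⧸ n₁) = (c x : ℕ∞) := by
        have hNle : ∀ v, nu π x hy₁ G (CycK.sl j x v) ∈ N (c₁ x hx) := fun v =>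
          Submodule.mem_sup_left ⟨nu π x hy₁ F v, nu_natural π x hy₁ j v⟩
        let g := n₁.mkQ.comp (nu π x hy₁ G)
        have hg : Function.Surjective g := fun e => by
          obtain ⟨e, rfl⟩ := Submodule.mkQ_surjective _ e
          obtain ⟨v, hv⟩ := exists_sub_nu_mem π x hy₁ (hres x hx _ hy₁) hGc.1 e
          refine ⟨v, ?_⟩
          show Submodule.Quotient.mk (nu π x hy₁ G v) = Submodule.Quotient.mk e
          rw [eq_comm, Submodule.Quotient.eq]
          exact Submodule.mem_sup_right hv
        have hk : LinearMap.ker g = LinearMap.range (RefHull.stalkMapₗ j x) := by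
          refine le_antisymm (fun v hv => ?_) ?_
          · have hv' : nu π x hy₁ G v ∈ N (c₁ x hx) := (Submodule.Quotient.mk_eq_zero n₁).1 hv
            obtain ⟨_, ⟨w, rfl⟩, m, hm, hsum⟩ := Submodule.mem_sup.1 hv'
            obtain ⟨f, hf⟩ := exists_sub_nu_mem π x hy₁ (hres x hx _ hy₁) hF.1 w
            have h1 : nu π x hy₁ G (v - CycK.sl j x f) ∈
                maximalIdeal (Y.presheaf.stalk (c₁ x hx)) • (⊤ : Submodule (Y.presheaf.stalk (c₁ x hx))
                  (E'.presheaf.stalk (c₁ x hx))) := by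
              rw [map_sub, ← nu_natural, ← hsum,
                show CycK.sl (pb.map j) _ w + m - CycK.sl (pb.map j) _ (nu π x hy₁ F f) =
                  CycK.sl (pb.map j) _ (w - nu π x hy₁ F f) + m by rw [map_sub]; abel]
              refine add_mem ?_ hm
              have h4 := Submodule.mem_map_of_mem (f := CycK.sl (pb.map j) (c₁ x hx)) hf
              rw [Submodule.map_smul''] at h4
              exact Submodule.smul_mono le_rfl le_top h4
            have h2 : v - CycK.sl j x f ∈ LinearMap.range (RefHull.stalkMapₗ j x) := by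
              refine Submodule.smul_induction_on ((nu_mem_iff π x hy₁ (hres x hx _ hy₁) hG _).1 h1)
                (fun a ha w _ => (hjon x hx).1 a ha w) (fun u w hu hw => add_mem hu hw)
            rw [show v = v - CycK.sl j x f + CycK.sl j x f by abel]
            exact add_mem h2 ⟨f, rfl⟩
          · rintro _ ⟨f, rfl⟩
            exact (Submodule.Quotient.mk_eq_zero n₁).2 (hNle f)
        rw [← (LinearMap.quotKerEquivOfSurjective g hg).length_eq, (Submodule.quotEquivOfEq _ _ hk).length_eq]
        exact (hjon x hx).2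
      -- the cokernel of `π_*E → π_*E'`
      have hcι : Module.length A ((P.obj E').presheaf.stalk x ⧸ LinearMap.range (CycK.sl (P.map ι) x)) =
          (c x : ℕ∞) := by
        have hsurj : Function.Surjective (n₁.mkQ.comp π₁) := fun e => by
          obtain ⟨e, rfl⟩ := Submodule.mkQ_surjective _ e
          obtain ⟨z, hz⟩ := hsurj₁ (fun y => if h : y = c₁ x hx then h ▸ e else 0)
          refine ⟨z, ?_⟩
          show Submodule.Quotient.mk (proj π x E' hy₁ z) = Submodule.Quotient.mk e
          rw [Submodule.Quotient.eq]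
          have h := hz _ hy₁ hy₁S
          rw [dif_pos rfl, show CycK.sl ι (c₁ x hx) = RefHull.stalkMapₗ ι _ from rfl, hr₁ _ hy₁S] at h
          exact h
        have hk : LinearMap.ker (n₁.mkQ.comp π₁) = LinearMap.range (CycK.sl (P.map ι) x) := by
          ext z
          refine (Submodule.Quotient.mk_eq_zero n₁).trans ?_
          rw [hker₁ z]
          refine ⟨fun h y hy hyS => ?_, fun h => ?_⟩
          · obtain rfl := honly y hy hyS
            rw [show CycK.sl ι (c₁ x hx) = RefHull.stalkMapₗ ι _ from rfl, hr₁ _ hy₁S]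
            exact h
          · have h' := h _ hy₁ hy₁S
            rw [show CycK.sl ι (c₁ x hx) = RefHull.stalkMapₗ ι _ from rfl, hr₁ _ hy₁S] at h'
            exact h'
        rw [← hν, ← (LinearMap.quotKerEquivOfSurjective _ hsurj).length_eq,
          (Submodule.quotEquivOfEq _ _ hk).length_eq]
      -- lengths
      have hlenβ : Module.length A ((P.obj E).presheaf.stalk x ⧸ LinearMap.range (CycK.sl β x)) = (r : ℕ∞) := by
        have h1 := NodePush7.length_coker_comp (CycK.sl β x) (CycK.sl (P.map ι) x) hι₁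
        have h2 := NodePush7.length_coker_comp (CycK.sl j x) η (hηG x).1
        rw [show (CycK.sl (P.map ι) x).comp (CycK.sl β x) = η.comp (CycK.sl j x) from LinearMap.ext (hβ x),
          hcι] at h1
        erw [(hηG x).2, if_pos hx, (hjon x hx).2] at h2
        refine eq_of_length_add (b := c x) ?_ rfl
        exact (((Nat.cast_add r (c x)).trans (add_comm _ _)).trans (h2.symm.trans h1))
      refine ⟨hlenβ, fun z hz => ?_⟩
      -- the kernel modulo the two points is `𝔪 G`
      obtain ⟨-, hsurj₂, hker₂⟩ := push_sub π x κ hH.1 hE'c.1 (S₁ ∪ S₂) (fun y hy => (hS₁ y hy).1)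
        (fun z hz => (hb₂ z hz).2)
      let Φ : (P.obj E').presheaf.stalk x →ₗ[A]
          (E'.presheaf.stalk (c₁ x hx) ⧸ m₁) × (E'.presheaf.stalk (c₂ x hx) ⧸ m₂) :=
        (m₁.mkQ.comp π₁).prod (m₂.mkQ.comp π₂)
      have hΦ : Function.Surjective Φ := fun e => by
        obtain ⟨e₁, he₁⟩ := Submodule.mkQ_surjective _ e.1
        obtain ⟨e₂, he₂⟩ := Submodule.mkQ_surjective _ e.2
        obtain ⟨z, hz⟩ := hsurj₂ (fun y => if h : y = c₁ x hx then h ▸ e₁ else
          if h' : y = c₂ x hx then h' ▸ e₂ else 0)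
        refine ⟨z, Prod.ext ?_ ?_⟩
        · show Submodule.Quotient.mk (proj π x E' hy₁ z) = e.1
          rw [← he₁, Submodule.mkQ_apply, Submodule.Quotient.eq]
          have h := hz _ hy₁ (Finset.mem_union_left _ hy₁S)
          rw [dif_pos rfl, show CycK.sl κ (c₁ x hx) = RefHull.stalkMapₗ κ _ from rfl,
            hr₂ _ (Finset.mem_union_left _ hy₁S)] at h
          exact h
        · show Submodule.Quotient.mk (proj π x E' hy₂ z) = e.2
          rw [← he₂, Submodule.mkQ_apply, Submodule.Quotient.eq]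
          have h := hz _ hy₂ (Finset.mem_union_right _ hy₂S)
          rw [dif_neg (hne x hx).symm, dif_pos rfl, show CycK.sl κ (c₂ x hx) = RefHull.stalkMapₗ κ _ from rfl,
            hr₂ _ (Finset.mem_union_right _ hy₂S)] at h
          exact h
      let K : Submodule A (G.presheaf.stalk x) := maximalIdeal A • ⊤
      have hle : LinearMap.range (η.comp K.subtype) ≤ LinearMap.ker Φ := by
        rintro _ ⟨v, rfl⟩
        exact Prod.ext ((Submodule.Quotient.mk_eq_zero m₁).2 ((nu_mem_iff π x hy₁ (hres x hx _ hy₁) hG v.1).2 v.2))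
          ((Submodule.Quotient.mk_eq_zero m₂).2 ((nu_mem_iff π x hy₂ (hres x hx _ hy₂) hG v.1).2 v.2))
      have hK : Module.length A (G.presheaf.stalk x ⧸ LinearMap.range K.subtype) = (r : ℕ∞) := by
        rw [(Submodule.quotEquivOfEq _ _ K.range_subtype).length_eq]
        have := length_residual (A := A) (B := A) (fun a => ⟨a, by simp⟩) (G.presheaf.stalk x) bG.equivFun
        rw [Submodule.restrictScalars_self, Fintype.card_fin] at this
        exact this
      have hker : LinearMap.ker Φ ≤ LinearMap.range (η.comp K.subtype) := by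
        have h1 := NodePush7.length_coker_comp K.subtype η (hηG x).1
        erw [hK, (hηG x).2, if_pos hx] at h1
        have h2 : Module.length A ((P.obj E').presheaf.stalk x ⧸ LinearMap.ker Φ) = (r : ℕ∞) + r := by
          rw [(LinearMap.quotKerEquivOfSurjective Φ hΦ).length_eq, Module.length_prod]
          congr 1
          · have := length_residual (A := A) (B := Y.presheaf.stalk (c₁ x hx)) (hres x hx _ hy₁) _ b₁.equivFun
            rw [Fintype.card_fin] at this
            exact this
          · have := length_residual (A := A) (B := Y.presheaf.stalk (c₂ x hx)) (hres x hx _ hy₂) _ b₂.equivFun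
            rw [Fintype.card_fin] at this
            exact this
        have h3 := Module.length_eq_add_of_exact (LinearMap.ker (Submodule.factor hle)).subtype (Submodule.factor hle)
          Subtype.val_injective (Submodule.factor_surjective hle) (LinearMap.exact_subtype_ker_map _)
        replace h3 := h1.symm.trans (h3.trans (congrArg (_ + ·) h2))
        have h4 : Module.length A (LinearMap.ker (Submodule.factor hle)) = (0 : ℕ) :=
          eq_of_length_add (a := 0) (b := r + r) (by rw [Nat.zero_add, Nat.cast_add]; exact h3) rfl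
        haveI := Module.length_eq_zero_iff.1 (h4.trans Nat.cast_zero)
        intro v hv
        rw [← Submodule.Quotient.mk_eq_zero]
        have hinj' : Function.Injective (Submodule.factor hle) :=
          LinearMap.ker_eq_bot.1 Submodule.eq_bot_of_subsingleton
        refine hinj' ?_
        rw [map_zero]
        exact (Submodule.Quotient.mk_eq_zero _).2 hv
      have hmem : ∀ y (hy : π y = x), proj π x E hy z ∈
          maximalIdeal (Y.presheaf.stalk y) • (⊤ : Submodule (Y.presheaf.stalk y) (E.presheaf.stalk y)) := fun y hy => by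
        refine (rho_stalk I hEr y).2 ((hI y).2 (hy.symm ▸ hx)) _ ?_
        rw [← proj_natural, hz]
        exact map_zero (CycLib.PushSheaf.stalkProj π _ x hy).hom
      have hzK : CycK.sl (P.map ι) x z ∈ LinearMap.ker Φ := by
        have h4 : ∀ y (hy : π y = x), proj π x E' hy (CycK.sl (P.map ι) x z) ∈
            maximalIdeal (Y.presheaf.stalk y) • (⊤ : Submodule (Y.presheaf.stalk y) (E'.presheaf.stalk y)) := fun y hy => by
          rw [proj_natural]
          have h4 := Submodule.mem_map_of_mem (f := CycK.sl ι y) (hmem y hy)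
          rw [Submodule.map_smul''] at h4
          exact Submodule.smul_mono le_rfl le_top h4
        exact Prod.ext ((Submodule.Quotient.mk_eq_zero m₁).2 (h4 _ hy₁))
          ((Submodule.Quotient.mk_eq_zero m₂).2 (h4 _ hy₂))
      obtain ⟨v, hv⟩ := hker hzK
      obtain ⟨f, hf⟩ := Submodule.smul_induction_on (p := fun w => w ∈ LinearMap.range (RefHull.stalkMapₗ j x))
        v.2 (fun a ha w _ => (hjon x hx).1 a ha w) (fun u w hu hw => add_mem hu hw)
      refine ⟨f, hι₁ ?_⟩
      rw [hβ, sl_eq_stalkMap j, hf]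
      exact hv
    · rw [if_neg hx]
      have hsurjη : Function.Surjective (CycK.sl ((Scheme.Modules.pullbackPushforwardAdjunction π).unit.app G) x) := by
        have h := (hηG x).2
        rw [if_neg hx, Module.length_eq_zero_iff, Submodule.Quotient.subsingleton_iff] at h
        exact LinearMap.range_eq_top.1 h
      have hsurjβ : Function.Surjective (CycK.sl β x) := fun z => by
        obtain ⟨g, hg⟩ := hsurjη (CycK.sl (P.map ι) x z)
        obtain ⟨f, hf⟩ := hjoff x hx g
        refine ⟨f, (hPι x).1 ?_⟩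
        rw [hβ, sl_eq_stalkMap j, hf, hg]
      refine ⟨?_, fun z _ => hsurjβ z⟩
      rw [Module.length_eq_zero_iff, Submodule.Quotient.subsingleton_iff, LinearMap.range_eq_top]
      exact hsurjβ
  haveI : Mono β := CycK.mono_of_sl β fun x => (hmain x).1
  haveI : Epi (rho I E) := HomShX.epi_of_stalk _ fun y => (rho_stalk I hEr y).1
  haveI : Epi (P.map (rho I E)) := HomShX.epi_of_stalk _ fun x =>
    sl_map_surjective π x hE.1 (ParShLib.isCoh_resD I hE).1 (rho I E)
  let ρ := P.map (rho I E)
  have hfac : kernel.ι ρ ≫ cokernel.π β = 0 := HomShX.ext_stalk fun x => LinearMap.ext fun v => by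
    show CycK.sl (kernel.ι ρ ≫ cokernel.π β) x v = CycK.sl 0 x v
    rw [CycK.sl_zero, CycK.sl_comp_apply, LinearMap.zero_apply]
    refine ((CycK.sl_exact (S := ShortComplex.mk β (cokernel.π β) (cokernel.condition β))
      (ShortComplex.exact_cokernel β) x) _).2 ((hmain x).2.2 _ ?_)
    show CycK.sl ρ x (CycK.sl (kernel.ι ρ) x v) = 0
    rw [← CycK.sl_comp_apply, kernel.condition, CycK.sl_zero, LinearMap.zero_apply]
  let q := Abelian.epiDesc ρ (cokernel.π β) hfac
  have hq : ρ ≫ q = cokernel.π β := Abelian.comp_epiDesc _ _ _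
  refine ⟨E, hEr, cokernel β, q, epi_of_epi_fac hq, fun x hx => ?_, fun x hx => ?_, ⟨?_⟩⟩
  · rw [← Module.length_eq_zero_iff (R := X.presheaf.stalk x), (CycK.cokerEquiv β x).symm.length_eq,
      (hmain x).2.1, if_neg hx]
  · rw [(CycK.cokerEquiv β x).symm.length_eq, (hmain x).2.1, if_pos hx]
  · exact IsLimit.conePointUniqueUpToIso (Abelian.monoIsKernelOfCokernel _ (cokernelIsCokernel β))
      (kernelIsKernel (cokernel.π β)) ≪≫ eqToIso (congrArg (fun φ => kernel φ) hq.symm)

end Groth.Agent.NodeNorm7
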