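import Groth.Agent.NodePush7.Alg
import Groth.Agent.NodeLib.Crit
import Mathlib.RingTheory.Valuation.ValuationRing

/-! A node has no local birational valuation ring over it with cokernel killed by the maximal ideal. -/

set_option autoImplicit false

universe u

namespace Groth.Agent.NodeNorm7

open IsLocalRing

/-- No valuation ring lies birationally over a node with cokernel killed by the maximal ideal. -/
theorem false_of_nodePair {A B : Type u} [CommRing A] [IsLocalRing A] [CommRing B] [IsDomain B] [IsLocalRing B]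
    (φ : A →+* B) [IsLocalHom φ] (hφ : Function.Injective φ) (hdvd : ∀ p q : B, p ∣ q ∨ q ∣ p)
    (hstab : ∀ z ∈ maximalIdeal A, ∀ b : B, ∃ w, φ w = φ z * b)
    {x y : A} (h : NodeLib.IsNodePair x y) : False := by
  obtain ⟨x, y, h, γ, hγ⟩ : ∃ (x y : A) (_ : NodeLib.IsNodePair x y) (γ : B), φ y = φ x * γ := by
    rcases hdvd (φ x) (φ y) with ⟨c, hc⟩ | ⟨c, hc⟩
    · exact ⟨x, y, h, c, hc⟩
    · exact ⟨y, x, h.symm, c, hc⟩
  have hw : ∀ z ∈ maximalIdeal A, ∀ b : B, ∃ w ∈ maximalIdeal A, φ w = φ z * b := fun z hz b => by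
    obtain ⟨w, hw⟩ := hstab z hz b
    refine ⟨w, fun hu => (mem_maximalIdeal _).1 hz ?_, hw⟩
    exact isUnit_of_map_unit φ z (isUnit_of_mul_isUnit_left (hw ▸ hu.map φ))
  have hgen : ∀ z ∈ maximalIdeal A, φ x ∣ φ z := fun z hz => by
    rw [h.1, Ideal.mem_span_pair] at hz
    obtain ⟨a, b, rfl⟩ := hz
    exact ⟨φ a + φ b * γ, by rw [map_add, map_mul, map_mul, hγ]; ring⟩
  have hm3 : φ x ^ 3 ∣ φ (x * y) := by
    rw [← Ideal.mem_span_singleton]
    have h1 : (maximalIdeal A).map φ ≤ Ideal.span {φ x} :=
      Ideal.map_le_iff_le_comap.2 fun z hz => Ideal.mem_span_singleton.2 (hgen z hz)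
    rw [← Ideal.span_singleton_pow]
    refine Ideal.pow_right_mono h1 3 ?_
    rw [← Ideal.map_pow]
    exact Ideal.mem_map_of_mem φ h.2.1
  have hx0 : φ x ≠ 0 := fun h0 => by
    have hx : x = 0 := hφ (h0.trans (map_zero φ).symm)
    exact (mem_maximalIdeal _).1 (h.2.2 1 le_rfl 1 0 (by simp [hx])).1 isUnit_one
  obtain ⟨d, hd⟩ := hm3
  have hγ' : γ = φ x * d := by
    refine mul_left_cancel₀ (mul_ne_zero hx0 hx0) ?_
    rw [map_mul, hγ] at hd
    linear_combination hd
  obtain ⟨w, hwm, hw'⟩ := hw x h.left_mem d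
  have hy : y = x * w := hφ (by rw [hγ, hγ', map_mul, hw'])
  refine (mem_maximalIdeal _).1 (h.2.2 1 le_rfl 0 1 ?_).2 isUnit_one
  simp only [zero_mul, pow_one, one_mul, zero_add, hy, one_add_one_eq_two, pow_two]
  exact Ideal.mul_mem_mul h.left_mem hwm

section Length

variable {A B : Type u} [CommRing A] [IsLocalRing A] [CommRing B] [IsLocalRing B] [Algebra A B]

/-- Length of a finite free module modulo the maximal ideal, over a ring with the same residue field. -/
theorem length_residual (hres : ∀ b : B, ∃ a : A, b - algebraMap A B a ∈ maximalIdeal B)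
    (E : Type u) [AddCommGroup E] [Module B E] [Module A E] [IsScalarTower A B E] {ι : Type} [Fintype ι]
    (e : E ≃ₗ[B] (ι → B)) :
    Module.length A (E ⧸ (maximalIdeal B • (⊤ : Submodule B E)).restrictScalars A) = Fintype.card ι := by
  classical
  have hm : maximalIdeal B • (⊤ : Submodule B E) =
      LinearMap.ker ((LinearMap.pi fun i => (maximalIdeal B).mkQ.comp (LinearMap.proj i)).comp e.toLinearMap) := by
    ext v
    rw [LinearMap.mem_ker, funext_iff]
    constructor
    · intro hv i
      refine Submodule.smul_induction_on hv (fun b hb w _ => ?_) fun v w hv hw => ?_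
      · exact (Submodule.Quotient.mk_eq_zero _).2 (by
          simp only [map_smul, LinearMap.proj_apply, Pi.smul_apply, smul_eq_mul]
          exact Ideal.mul_mem_right _ _ hb)
      · simp only [map_add, Pi.add_apply, hv, hw, Pi.zero_apply, add_zero]
    · intro hv
      rw [← e.symm_apply_apply v, pi_eq_sum_univ (e v), map_sum]
      refine Submodule.sum_mem _ fun i _ => ?_
      rw [map_smul]
      exact Submodule.smul_mem_smul ((Submodule.Quotient.mk_eq_zero _).1 (hv i)) Submodule.mem_top
  let π₀ : E →ₗ[B] (ι → B ⧸ maximalIdeal B) :=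
    (LinearMap.pi fun i => (maximalIdeal B).mkQ.comp (LinearMap.proj i)).comp e.toLinearMap
  have hπ₀ : Function.Surjective (π₀.restrictScalars A) := fun g =>
    ⟨e.symm fun i => (Submodule.mkQ_surjective _ (g i)).choose, funext fun i => by
      simp only [π₀, LinearMap.coe_restrictScalars, LinearMap.comp_apply, LinearEquiv.coe_coe,
        LinearEquiv.apply_symm_apply, LinearMap.pi_apply, LinearMap.proj_apply]
      exact (Submodule.mkQ_surjective _ (g i)).choose_spec⟩
  have hk : (maximalIdeal B • (⊤ : Submodule B E)).restrictScalars A = LinearMap.ker (π₀.restrictScalars A) := by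
    rw [hm]; rfl
  rw [((Submodule.quotEquivOfEq _ _ hk).trans (LinearMap.quotKerEquivOfSurjective _ hπ₀)).length_eq,
    Module.length_pi_of_fintype]
  have h1 : Module.length A (B ⧸ maximalIdeal B) = 1 := by
    rw [Module.length_eq_of_surjective (R := B ⧸ maximalIdeal B) (S := A) ?_, Module.length_eq_one_iff]
    · letI := Ideal.Quotient.field (maximalIdeal B)
      infer_instance
    · intro b
      obtain ⟨b, rfl⟩ := Ideal.Quotient.mk_surjective b
      obtain ⟨a, ha⟩ := hres b
      refine ⟨a, ?_⟩
      rw [IsScalarTower.algebraMap_apply A B (B ⧸ maximalIdeal B)]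
      exact (Ideal.Quotient.eq.2 ha).symm
  simp [h1]

end Length

end Groth.Agent.NodeNorm7
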