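import Groth.Agent.NodeNorm7.PushStalk
import Groth.Agent.NodeNorm7.NodeAlg
import Groth.Agent.NodePush7.Setup
import Groth.Agent.CurveBC.FiniteDim
import Groth.Agent.CurveCohLib.SubBundle
import Mathlib.AlgebraicGeometry.AlgClosed.Basic

/-! Points of the normalisation over a node. -/

set_option autoImplicit false
set_option linter.style.haveILetI false
set_option linter.unusedSectionVars false
set_option backward.isDefEq.respectTransparency false
set_option backward.isDefEq.respectTransparency.types false
set_option maxHeartbeats 800000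

universe u

noncomputable section

open CategoryTheory CategoryTheory.Limits AlgebraicGeometry TopologicalSpace Opposite IsLocalRing

namespace Groth.Agent.NodeNorm7

open Groth.Agent

variable {k : Type u} [Field k] [IsAlgClosed k] {X Y : Scheme.{u}} (s : X ⟶ Spec (CommRingCat.of k))
  (π : Y ⟶ X)

theorem isClosed_point [IsFinite π] {y : Y} {x : X} (hy : π y = x) (hx : IsClosed ({x} : Set X)) :
    IsClosed ({y} : Set Y) := by
  refine closure_eq_iff_isClosed.1 (Set.Subset.antisymm (fun z hz => ?_) subset_closure)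
  have h : y ⤳ z := specializes_iff_mem_closure.2 hz
  have hz' : π z = π y := by
    rw [hy]
    exact (hy ▸ h.map π.continuous).mem_closed hx (Set.mem_singleton x)
  exact (CurveBC.eq_of_specializes_fibre π h hz'.symm).symm

theorem exists_sub_mem [LocallyOfFiniteType s] [IsFinite π] {y : Y} {x : X} (hy : π y = x)
    (hx : IsClosed ({x} : Set X)) (b : Y.presheaf.stalk y) :
    ∃ a, b - CycLib.PushSheaf.stalkHom π x hy a ∈ maximalIdeal (Y.presheaf.stalk y) := by
  subst hy
  have hyc := isClosed_point π rfl hx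
  have h : (residueFieldIsoBase (π ≫ s) y hyc).inv =
      (residueFieldIsoBase s (π y) hx).inv ≫ π.residueFieldMap y := by
    refine Spec.map_injective ?_
    rw [Spec.map_comp, SpecMap_residueFieldIsoBase_inv, SpecMap_residueFieldIsoBase_inv,
      Scheme.Hom.SpecMap_residueFieldMap_fromSpecResidueField_assoc]
  haveI : IsIso (π.residueFieldMap y) := by
    have h' : π.residueFieldMap y =
        (residueFieldIsoBase s (π y) hx).hom ≫ (residueFieldIsoBase (π ≫ s) y hyc).inv := by
      rw [h, Iso.hom_inv_id_assoc]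
    rw [h']; infer_instance
  obtain ⟨c, hc⟩ := (ConcreteCategory.bijective_of_isIso (π.residueFieldMap y)).2 (Y.residue y b)
  obtain ⟨a, rfl⟩ := X.residue_surjective (π y) c
  refine ⟨a, ?_⟩
  rw [← residue_eq_zero_iff, map_sub, sub_eq_zero]
  rw [show CycLib.PushSheaf.stalkHom π (π y) rfl = (π.stalkMap y).hom by
    unfold CycLib.PushSheaf.stalkHom; rw [TopCat.Presheaf.stalkSpecializes_refl, Category.id_comp]]
  refine hc.symm.trans ?_
  exact (congr($(Scheme.residue_residueFieldMap π y) a)).trans rfl

theorem isPrincipalIdealRing_stalk [Smooth (π ≫ s)] [IsFinite π] (hdim : topologicalKrullDim X ≤ 1) (y : Y) :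
    IsPrincipalIdealRing (Y.presheaf.stalk y) := by
  refine CurveCohLib.isPrincipalIdealRing_stalk_of_smooth (π ≫ s) (le_trans ?_ hdim) y
  let g : IrreducibleCloseds Y → IrreducibleCloseds X := fun Z =>
    ⟨π '' (Z : Set Y), Z.isIrreducible.image _ π.continuous.continuousOn, π.isClosedMap _ Z.isClosed⟩
  refine Order.krullDim_le_of_strictMono g fun S T hST => ?_
  refine lt_of_le_of_ne (Set.image_mono (f := π) hST.le) fun h => ?_
  obtain ⟨a, ha⟩ := QuasiSober.sober S.isIrreducible S.isClosed
  obtain ⟨b, hb⟩ := QuasiSober.sober T.isIrreducible T.isClosed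
  have hab : b ⤳ a := hb.specializes (hST.le ha.mem)
  obtain ⟨c, hc, hce⟩ : π b ∈ π '' (S : Set Y) :=
    (congrArg (fun Z : IrreducibleCloseds X => (Z : Set X)) h).ge ⟨b, hb.mem, rfl⟩
  have h1 : π a ⤳ π b := hce ▸ (ha.specializes hc).map π.continuous
  have he : π a = π b := (h1.antisymm (hab.map π.continuous)).eq
  exact hST.ne (IrreducibleCloseds.ext (by
    rw [← ha.def, ← hb.def, CurveBC.eq_of_specializes_fibre π hab he.symm]))

theorem isDomain_stalk [Smooth (π ≫ s)] (y : Y) : IsDomain (Y.presheaf.stalk y) := by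
  haveI := SmoothReg.isRegularLocalRing_stalk_of_mem_smoothLocus (π ≫ s) (x := y)
    (by rw [Scheme.Hom.smoothLocus_eq_top]; trivial)
  exact RegLoc6.isDomain_of_isRegularLocalRing _

theorem maximalIdeal_ne_bot [IsLocallyNoetherian Y] {U : Y.Opens} (hU : Dense (U : Set Y)) {y : Y} (hy : y ∉ U) :
    maximalIdeal (Y.presheaf.stalk y) ≠ ⊥ := fun hbot => by
  obtain ⟨_, ⟨W, hW, rfl⟩, hyW, -⟩ :=
    Y.isBasis_affineOpens.exists_subset_of_mem_open (Set.mem_univ y) isOpen_univ
  haveI : IsNoetherianRing Γ(Y, W) := IsLocallyNoetherian.component_noetherian ⟨W, hW⟩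
  obtain ⟨w, hwW, hwU, hwy⟩ : ∃ w ∈ W, w ∈ U ∧ w ⤳ y := by
    haveI : NoetherianSpace W := by
      haveI : CompactSpace (W : Scheme.{u}) := isCompact_iff_compactSpace.1 hW.isCompact
      haveI : IsLocallyNoetherian (W : Scheme.{u}) := LocallyOfFiniteType.isLocallyNoetherian (Scheme.Opens.ι W)
      haveI : AlgebraicGeometry.IsNoetherian (W : Scheme.{u}) := {}
      exact (inferInstance : NoetherianSpace (W : Scheme.{u}))
    let z : W := ⟨y, hyW⟩
    let Z : Set W := (⋃ C ∈ {C ∈ irreducibleComponents W | z ∉ C}, C)ᶜ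
    have hZ : IsOpen Z := ((NoetherianSpace.finite_irreducibleComponents.subset (fun C hC => hC.1)).isClosed_biUnion
      fun C hC => isClosed_of_mem_irreducibleComponents C hC.1).isOpen_compl
    have hne : (Subtype.val '' Z).Nonempty := ⟨y, z, by simp [Z], rfl⟩
    obtain ⟨_, ⟨v, hv, rfl⟩, hvU⟩ := hU.inter_open_nonempty _ (W.2.isOpenMap_subtype_val _ hZ) hne
    have hzC : z ∈ irreducibleComponent v := by
      by_contra h
      exact hv (Set.mem_biUnion (show irreducibleComponent v ∈ {C ∈ irreducibleComponents W | z ∉ C} from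
        ⟨irreducibleComponent_mem_irreducibleComponents v, h⟩) mem_irreducibleComponent)
    haveI : QuasiSober {x // x ∈ W.carrier} := W.2.isOpenEmbedding_subtypeVal.quasiSober
    obtain ⟨η, hη⟩ := QuasiSober.sober (isIrreducible_irreducibleComponent (x := v)) isClosed_irreducibleComponent
    refine ⟨η.1, η.2, ?_, (hη.specializes hzC).map continuous_subtype_val⟩
    exact ((hη.specializes mem_irreducibleComponent).map continuous_subtype_val).mem_open U.2 hvU
  have hrange : w ∈ Set.range (Y.fromSpecStalk y) := by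
    rw [Scheme.range_fromSpecStalk]; exact hwy
  obtain ⟨p, rfl⟩ := hrange
  have hp : p = closedPoint _ := PrimeSpectrum.ext (by
    show p.asIdeal = maximalIdeal _
    rw [hbot]
    exact le_bot_iff.1 (hbot ▸ le_maximalIdeal p.isPrime.ne_top))
  subst hp
  rw [Scheme.fromSpecStalk_closedPoint] at hwU
  exact hy hwU

end Groth.Agent.NodeNorm7
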