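import Groth.Agent.CycLib.PushSheaf
import Groth.Agent.CycK.Sl
import Groth.Agent.QCoh.RpushGod
import Mathlib.AlgebraicGeometry.Morphisms.Finite

/-! Stalks of direct images along finite morphisms. -/

set_option autoImplicit false
set_option linter.style.haveILetI false
set_option backward.isDefEq.respectTransparency false
set_option backward.isDefEq.respectTransparency.types false
set_option maxHeartbeats 800000

universe u

noncomputable section

open CategoryTheory CategoryTheory.Limits AlgebraicGeometry TopologicalSpace Opposite IsLocalRing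

namespace Groth.Agent.NodeNorm7

open Groth.Agent

variable {X Y : Scheme.{u}} (π : Y ⟶ X) {M N : Y.Modules} (x : X)

/-- The component of a stalk of a direct image at a point of the fibre. -/
abbrev proj (M : Y.Modules) {y : Y} (h : π y = x) (m : ((Scheme.Modules.pushforward π).obj M).presheaf.stalk x) :
    M.presheaf.stalk y :=
  CycLib.PushSheaf.stalkProj π M x h m

theorem proj_natural (φ : M ⟶ N) {y : Y} (h : π y = x)
    (m : ((Scheme.Modules.pushforward π).obj M).presheaf.stalk x) :
    proj π x N h (CycK.sl ((Scheme.Modules.pushforward π).map φ) x m) = CycK.sl φ y (proj π x M h m) := by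
  obtain ⟨U, hU, s, rfl⟩ := ((Scheme.Modules.pushforward π).obj M).presheaf.exists_germ_eq (x := x) m
  rw [CycK.sl_germ]
  refine (CycLib.PushSheaf.stalkProj_germ π N x h hU _).trans ?_
  refine Eq.trans ?_ (congrArg (CycK.sl φ y) (CycLib.PushSheaf.stalkProj_germ π M x h hU s)).symm
  rw [CycK.sl_germ]
  rfl

theorem exists_preimage_le [UniversallyClosed π] (P : Y.Opens) (hP : ∀ z, π z = x → z ∈ P) :
    ∃ V : X.Opens, x ∈ V ∧ π ⁻¹ᵁ V ≤ P := by
  refine ⟨⟨(π.base '' (P : Set Y)ᶜ)ᶜ, (π.isClosedMap _ P.2.isClosed_compl).isOpen_compl⟩, ?_, ?_⟩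
  · rintro ⟨z, hz, he⟩
    exact hz (hP z he)
  · intro z hz
    by_contra h
    exact hz ⟨z, h, rfl⟩

theorem proj_injective [UniversallyClosed π] (M : Y.Modules)
    (a : ((Scheme.Modules.pushforward π).obj M).presheaf.stalk x)
    (h : ∀ y (hy : π y = x), proj π x M hy a = 0) : a = 0 := by
  obtain ⟨U, hU, s, rfl⟩ := ((Scheme.Modules.pushforward π).obj M).presheaf.exists_germ_eq (x := x) a
  let t : Γ(M, π ⁻¹ᵁ U) := s
  let P : Y.Opens := ⨆ (P' : Y.Opens) (hP : P' ≤ π ⁻¹ᵁ U) (_ : M.presheaf.map (homOfLE hP).op t = 0), P'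
  obtain ⟨V, hV, hVP⟩ := exists_preimage_le π x P fun z hz => by
    have h1 : M.presheaf.germ (π ⁻¹ᵁ U) z (show π z ∈ U from hz ▸ hU) t = 0 :=
      (CycLib.PushSheaf.stalkProj_germ π M x hz hU s).symm.trans (h z hz)
    rw [← map_zero (M.presheaf.germ (π ⁻¹ᵁ U) z (show π z ∈ U from hz ▸ hU)).hom] at h1
    obtain ⟨P', hzP, i, i', he⟩ := M.presheaf.germ_eq z _ _ t 0 h1
    refine Opens.mem_iSup.2 ⟨P', Opens.mem_iSup.2 ⟨i.le, Opens.mem_iSup.2 ⟨?_, hzP⟩⟩⟩
    exact he.trans (map_zero _)
  have h2 : M.presheaf.map (homOfLE (π.preimage_mono (inf_le_left : U ⊓ V ≤ U))).op t = 0 := by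
    refine CycLib.PushSheaf.eq_of_germs (M := M) (U := π ⁻¹ᵁ (U ⊓ V)) _ _ fun z hz => ?_
    obtain ⟨P', h1⟩ := Opens.mem_iSup.1 (hVP hz.2)
    obtain ⟨hP, h2⟩ := Opens.mem_iSup.1 h1
    obtain ⟨he, hzP⟩ := Opens.mem_iSup.1 h2
    have h3 := congrArg (M.presheaf.germ P' z hzP) he
    rw [TopCat.Presheaf.germ_res_apply, map_zero] at h3
    rw [TopCat.Presheaf.germ_res_apply, map_zero]
    exact h3
  rw [← ((Scheme.Modules.pushforward π).obj M).presheaf.germ_res_apply (homOfLE (inf_le_left : U ⊓ V ≤ U)) x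
    ⟨hU, hV⟩ s]
  refine (congrArg (((Scheme.Modules.pushforward π).obj M).presheaf.germ (U ⊓ V) x ⟨hU, hV⟩) ?_).trans (map_zero _)
  exact h2

theorem proj_surjective_of_single [UniversallyClosed π] (M : Y.Modules) {y : Y} (hy : π y = x)
    (h : ∀ z, π z = x → z = y) : Function.Surjective (proj π x M hy) := fun g => by
  obtain ⟨O, hO, s, rfl⟩ := M.presheaf.exists_germ_eq (x := y) g
  obtain ⟨V, hV, hVO⟩ := exists_preimage_le π x O fun z hz => h z hz ▸ hO
  refine ⟨((Scheme.Modules.pushforward π).obj M).presheaf.germ V x hV (M.presheaf.map (homOfLE hVO).op s), ?_⟩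
  refine (CycLib.PushSheaf.stalkProj_germ π M x hy hV _).trans ?_
  exact TopCat.Presheaf.germ_res_apply _ _ _ _ _

/-- The direct image of an epimorphism of quasi-coherent modules is surjective on stalks. -/
theorem sl_map_surjective [IsAffineHom π] (hM : Coh.IsQCoh M) (hN : Coh.IsQCoh N) (φ : M ⟶ N) [Epi φ] :
    Function.Surjective (CycK.sl ((Scheme.Modules.pushforward π).map φ) x) := fun b => by
  obtain ⟨U, hU, t, rfl⟩ := ((Scheme.Modules.pushforward π).obj N).presheaf.exists_germ_eq (x := x) b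
  obtain ⟨_, ⟨V, hV, rfl⟩, hxV, hVU⟩ := X.isBasis_affineOpens.exists_subset_of_mem_open hU U.2
  obtain ⟨s, hs⟩ := QCoh.app_surjective_of_epi hM hN φ (hV.preimage π)
    (N.presheaf.map (homOfLE (π.preimage_mono (show V ≤ U from hVU))).op t)
  refine ⟨((Scheme.Modules.pushforward π).obj M).presheaf.germ V x hxV s, ?_⟩
  rw [CycK.sl_germ, ← ((Scheme.Modules.pushforward π).obj N).presheaf.germ_res_apply (homOfLE (show V ≤ U from hVU)) x hxV t]
  exact congrArg (((Scheme.Modules.pushforward π).obj N).presheaf.germ V x hxV) hs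

/-- Left exactness of the direct image on stalks. -/
theorem sl_map_exact (S : ShortComplex Y.Modules) (hS : S.Exact) [Mono S.f] :
    Function.Injective (CycK.sl ((Scheme.Modules.pushforward π).map S.f) x) ∧
      Function.Exact (CycK.sl ((Scheme.Modules.pushforward π).map S.f) x)
        (CycK.sl ((Scheme.Modules.pushforward π).map S.g) x) := by
  haveI : PreservesFiniteLimits (Scheme.Modules.pushforward π) :=
    haveI := (Scheme.Modules.pullbackPushforwardAdjunction π).rightAdjoint_preservesLimits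
    PreservesLimitsOfSize.preservesFiniteLimits _
  haveI : Mono ((Scheme.Modules.pushforward π).map S.f) := inferInstance
  refine ⟨CycK.sl_injective _ x, ?_⟩
  exact CycK.sl_exact (S := S.map (Scheme.Modules.pushforward π))
    (hS.map_of_mono_of_preservesKernel _ inferInstance inferInstance) x

/-- Direct images of modules supported at finitely many closed points of a fibre, on stalks. -/
theorem proj_bijective [UniversallyClosed π] (M : Y.Modules) (T : Finset Y) (hT : ∀ y ∈ T, π y = x)
    (S : Finset Y) (hTS : ∀ y ∈ S, π y = x → y ∈ T) (hTS' : T ⊆ S) (hS : ∀ y ∈ S, IsClosed ({y} : Set Y))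
    (hzero : ∀ z ∉ S, Subsingleton (M.presheaf.stalk z)) :
    Function.Bijective (fun (m : ((Scheme.Modules.pushforward π).obj M).presheaf.stalk x) (y : T) =>
      proj π x M (hT y.1 y.2) m) := by
  classical
  have hfin : ∀ S' : Finset Y, S' ⊆ S → IsClosed (S' : Set Y) := fun S' h => by
    rw [← Set.biUnion_of_singleton (S' : Set Y)]
    exact S'.finite_toSet.isClosed_biUnion fun y hy => hS y (h hy)
  let O : ∀ _ : T, Y.Opens := fun y => ⟨((S.erase y.1 : Finset Y) : Set Y)ᶜ,
    (hfin _ (Finset.erase_subset _ _)).isOpen_compl⟩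
  refine CycLib.PushSheaf.bijective_prod π M x π.isClosedMap (hfin S subset_rfl) hzero T
    (fun z => ⟨fun hz => ⟨hT z hz, hTS' hz⟩, fun hz => hTS z hz.2 hz.1⟩) O
    (fun y h => (Finset.mem_erase.1 h).1 rfl)
    (fun y z hz hzS => ?_) (fun y y' h => Subtype.ext ?_)
  · refine specializes_of_eq ?_
    by_contra hne
    exact hz (Finset.mem_erase.2 ⟨fun h => hne h.symm, hzS⟩)
  · exact (h.mem_closed (hS y.1 (hTS' y.2)) (Set.mem_singleton y.1)).symm

end Groth.Agent.NodeNorm7
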