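import Groth.Agent.NodeNorm7.Pts
import Groth.Agent.RefX.Reflexive

/-! Two points of the normalisation over a node. -/

set_option autoImplicit false
set_option linter.style.haveILetI false
set_option linter.unusedSectionVars false
set_option backward.isDefEq.respectTransparency false
set_option backward.isDefEq.respectTransparency.types false
set_option maxHeartbeats 800000

universe u

noncomputable section

open CategoryTheory CategoryTheory.Limits AlgebraicGeometry TopologicalSpace Opposite IsLocalRing

namespace Groth.Agent.NodeNorm7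

open Groth.Agent

theorem mem_maximalIdeal_smul_of_length {A T : Type u} [CommRing A] [IsLocalRing A] [AddCommGroup T] [Module A T]
    (N : Submodule A T) (h : Module.length A (T ⧸ N) = 1) (z : A) (hz : z ∈ maximalIdeal A) (t : T) : z • t ∈ N := by
  obtain ⟨I, hI, ⟨q⟩⟩ := isSimpleModule_iff_quot_maximal.1 (Module.length_eq_one_iff.1 h)
  obtain rfl := eq_maximalIdeal hI
  rw [← Submodule.Quotient.mk_eq_zero, Submodule.Quotient.mk_smul]
  refine q.injective ?_
  rw [map_smul, map_zero]
  obtain ⟨a, ha⟩ := Submodule.mkQ_surjective _ (q (Submodule.Quotient.mk t))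
  rw [← ha, ← map_smul, Submodule.mkQ_apply, Submodule.Quotient.mk_eq_zero, smul_eq_mul]
  exact Ideal.mul_mem_right _ _ hz

variable {X Y : Scheme.{u}} (π : Y ⟶ X) (x : X)

theorem unit_stalk_proj {y : Y} (hy : π y = x) (a : X.presheaf.stalk x) :
    proj π x (Coh.structureModule Y) hy (CycK.sl (ClSub.unitToPush π) x (RefX.unitStalk x a)) =
      RefX.unitStalk y (CycLib.PushSheaf.stalkHom π x hy a) := by
  have hu : ∀ {Z : Scheme.{u}} (z : Z) (c : Z.presheaf.stalk z), RefX.unitStalk z c =
      c • (Coh.structureModule Z).presheaf.germ ⊤ z trivial (show Γ(Coh.structureModule Z, ⊤) from (1 : Γ(Z, ⊤))) :=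
    fun z c => rfl
  rw [hu, hu, map_smul]
  refine (CycLib.PushSheaf.stalkProj_smul π _ x hy a _).trans ?_
  congr 1
  rw [CycK.sl_germ]
  refine (CycLib.PushSheaf.stalkProj_germ π _ x hy (U := ⊤) trivial _).trans ?_
  exact congrArg ((Coh.structureModule Y).presheaf.germ (π ⁻¹ᵁ ⊤) y trivial) (map_one (π.app ⊤).hom)

/-- There are two points over a node. -/
theorem exists_two [IsFinite π] [AlgebraicGeometry.IsReduced X] {U : X.Opens} (hU : Dense (U : Set X))
    [IsIso (π ∣_ U)] [∀ y : Y, IsDomain (Y.presheaf.stalk y)] [∀ y : Y, IsPrincipalIdealRing (Y.presheaf.stalk y)]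
    (hlen : Module.length (X.presheaf.stalk x) ((cokernel (ClSub.unitToPush π)).presheaf.stalk x) = 1)
    (hnode : NodeLib.HasNodePair (X.presheaf.stalk x)) :
    ∃ y₁ y₂ : Y, y₁ ≠ y₂ ∧ π y₁ = x ∧ π y₂ = x := by
  haveI := NormEuler.mono_unitToPush π hU
  let u₀ := CycK.sl (ClSub.unitToPush π) x
  have hu₀ : Function.Injective u₀ := CycK.sl_injective _ x
  by_contra hcon
  push Not at hcon
  by_cases hne : ∃ y, π y = x
  · obtain ⟨y, hy⟩ := hne
    have hsingle : ∀ z, π z = x → z = y := fun z hz => by
      by_contra h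
      exact hcon z y h hz hy
    let φ := CycLib.PushSheaf.stalkHom π x hy
    haveI : IsLocalHom φ := CycLib.PushSheaf.isLocalHom_stalkHom π x hy
    have hinj : ∀ a b, proj π x (Coh.structureModule Y) hy a = proj π x (Coh.structureModule Y) hy b → a = b := by
      intro a b hab
      rw [← sub_eq_zero]
      refine proj_injective π x _ _ fun z hz => ?_
      obtain rfl := hsingle z hz
      show proj π x _ hy (a - b) = 0
      exact (map_sub (CycLib.PushSheaf.stalkProj π (Coh.structureModule Y) x hy).hom a b).trans (sub_eq_zero.2 hab)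
    have hφ : Function.Injective φ := fun a b hab => (RefX.unitStalk x).injective (hu₀ (hinj _ _ (by
      rw [unit_stalk_proj, unit_stalk_proj]
      exact congrArg (RefX.unitStalk y) hab)))
    obtain ⟨p, q, hpq⟩ := hnode
    refine false_of_nodePair φ hφ (fun p q => ValuationRing.dvd_total p q) (fun z hz b => ?_) hpq
    obtain ⟨t, ht⟩ := proj_surjective_of_single π x _ hy hsingle (RefX.unitStalk y b)
    rw [(CycK.cokerEquiv (ClSub.unitToPush π) x).symm.length_eq] at hlen
    obtain ⟨v, hv⟩ := mem_maximalIdeal_smul_of_length _ hlen z hz t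
    obtain ⟨w, rfl⟩ := (RefX.unitStalk x).surjective v
    refine ⟨w, (RefX.unitStalk y).injective ?_⟩
    rw [← unit_stalk_proj π x hy w]
    refine (congrArg (proj π x (Coh.structureModule Y) hy) hv).trans ?_
    refine (CycLib.PushSheaf.stalkProj_smul π _ x hy z t).trans ?_
    rw [show CycLib.PushSheaf.stalkProj π (Coh.structureModule Y) x hy t = RefX.unitStalk y b from ht, ← map_smul,
      smul_eq_mul]
  · refine one_ne_zero (α := X.presheaf.stalk x) ((RefX.unitStalk x).injective (hu₀ ?_))
    rw [map_zero, map_zero]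
    exact proj_injective π x _ _ fun y hy => absurd ⟨y, hy⟩ hne

end Groth.Agent.NodeNorm7
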